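import Mathlib
import Cfsg.Statements.S1350
import Cfsg.Statements.S1403
import Cfsg.Statements.S1404
import Cfsg.Statements.S1408
import Cfsg.Statements.S1409
import Cfsg.Statements.S1415
import Cfsg.Statements.S1423
import Cfsg.Agent.Lib.Helper27.BG.SigmaBasic
import Cfsg.Agent.Lib.Helper35.BG.Basic
import Cfsg.Agent.Lib.Helper35.BG.Hall
import Cfsg.Agent.Lib.Helper67.BG.HallUtil
import Cfsg.Agent.Lib.Helper69.PCount
import Cfsg.Agent.Lib.Helper72.BG8
import Cfsg.Agent.Lib.Helper74.BG.S1425Core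
import Cfsg.Agent.Lib.Helper76.BG.S1420Core
import Cfsg.Agent.Lib.Helper78.BG.S1405Core
import Cfsg.Agent.Lib.Helper85.BG.Conj

/-!
# The endgame of the sigma-partition (Bender–Glauberman 13.9), free of S1430

`M`, `L` are maximal subgroups, `X` a subgroup of prime order `p` with `p ∉ σ(M) ∪ σ(L)` and
`M`, `L` of `p`-rank at most one; `R ≤ C_M(X)` has prime order `r ∈ β(M)`, `S ≤ C_L(X)` has prime
order `s ∈ β(L)`; no prime of `β(L)` divides `|C_M(X)|` and no prime of `β(M)` divides `|C_L(X)|`.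
This is contradictory (`sigma_endgame`): look at a maximal subgroup `H ⊇ N_G(X)`.
-/

set_option autoImplicit false

namespace Cfsg.Agent.Lib.Helper90.BG

open Cfsg Cfsg.Agent.Lib.Helper35.BG

universe u

variable {G : Type u} [Group G] [Finite G]

/-- In a solvable subgroup `C`, every `π`-subgroup is conjugate (by an element of `C`) into a
given Hall `π`-subgroup. -/
theorem exists_conj_le_hall {π : Set ℕ} {F C Y : Subgroup G} (hC : Group.IsSolvable C)
    (hF : IsPiHallOf π F C) (hYC : Y ≤ C)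
    (hY : ∀ p : ℕ, p.Prime → p ∣ Nat.card Y → p ∈ π) :
    ∃ c ∈ C, Y.map (MulAut.conj c).toMonoidHom ≤ F := by
  obtain ⟨K, hK, hYK⟩ := Cfsg.Agent.Lib.Helper67.BG.exists_piHallOf_ge π C hC Y hYC hY
  obtain ⟨m, hm, hKm⟩ := exists_conj_of_isPiHallOf hC hF hK
  refine ⟨m⁻¹, inv_mem hm, ?_⟩
  rintro _ ⟨y, hy, rfl⟩
  have h1 := hYK hy
  rw [hKm, mem_map_conj_iff] at h1
  simpa [MulAut.conj_apply] using h1

/-- Conjugating a subgroup of `C_G(X)` by an element of `C_G(X)` stays inside `C_G(X)`. -/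
theorem map_conj_le_of_mem {C Y : Subgroup G} {c : G} (hc : c ∈ C) (hY : Y ≤ C) :
    Y.map (MulAut.conj c).toMonoidHom ≤ C := by
  rintro _ ⟨y, hy, rfl⟩
  simpa [MulAut.conj_apply] using mul_mem (mul_mem hc (hY hy)) (inv_mem hc)

/-- A subgroup of prime order `r` is an `r`-group. -/
theorem isPGroup_of_card_eq {r : ℕ} {R : Subgroup G} (hRc : Nat.card R = r) :
    IsPGroup r R :=
  IsPGroup.of_card (n := 1) (by rw [hRc, pow_one])

/-- The prime divisors of a group of prime order. -/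
theorem prime_dvd_card_eq {r : ℕ} (hr : r.Prime) {R : Subgroup G} (hRc : Nat.card R = r)
    {t : ℕ} (ht : t.Prime) (hdvd : t ∣ Nat.card R) : t = r := by
  rw [hRc] at hdvd
  exact (Nat.prime_dvd_prime_iff_eq ht hr).mp hdvd

/-- For `R ≤ M` of prime order `r ∈ β(M)`: `N_G(R) ≤ M`. -/
theorem normalizer_le_of_beta (hG : Cfsg.IsMinSimpleOddOrder G)
    (h1403 : type_of% (@Cfsg.CfsgFrozen.S1403 G _ _ hG))
    (h1404 : type_of% (@Cfsg.CfsgFrozen.S1404 G _ _ hG))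
    (h1423 : type_of% (@Cfsg.CfsgFrozen.S1423 G _ _ hG))
    (M : Subgroup G) (hM : IsCoatom M) (r : ℕ) (hr : r ∈ beta M) (R : Subgroup G) (hRM : R ≤ M)
    (hRc : Nat.card R = r) :
    Subgroup.centralizer (R : Set G) ≤ M ∧ Subgroup.normalizer (R : Set G) ≤ M := by
  have hrp : r.Prime := hr.1.1
  haveI : Fact r.Prime := ⟨hrp⟩
  have hrσ : r ∈ sigma M := Cfsg.Agent.Lib.Helper78.BG.alpha_subset_sigma hG h1403 M hM hr.1
  have hC : Subgroup.centralizer (R : Set G) ≤ M :=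
    (h1423 M hM r hrσ R hRM hRc default (Or.inl hr)).1.1
  refine ⟨hC, ?_⟩
  have hR1 : R ≠ ⊥ := by
    rintro rfl
    rw [Subgroup.card_bot] at hRc
    exact hrp.one_lt.ne hRc
  have h := (h1404 M hM r hrσ R (isPGroup_of_card_eq hRc) hR1 hRM).2
  rw [h]
  exact sup_le inf_le_left hC

/-- The core of the endgame: in a maximal subgroup `H ⊇ C_G(X)`, if `r ∈ τ₃(H)`, or
`r, s ∈ τ₁(H)`, then a `C_G(X)`-conjugate of `S` lies in `M`. -/
theorem endgame_aux (hG : Cfsg.IsMinSimpleOddOrder G)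
    (h1350 : type_of% (@Cfsg.CfsgFrozen.S1350 G _ _ hG))
    (h1403 : type_of% (@Cfsg.CfsgFrozen.S1403 G _ _ hG))
    (h1404 : type_of% (@Cfsg.CfsgFrozen.S1404 G _ _ hG))
    (h1415 : type_of% (@Cfsg.CfsgFrozen.S1415 G _ _ hG))
    (h1423 : type_of% (@Cfsg.CfsgFrozen.S1423 G _ _ hG))
    (M : Subgroup G) (hM : IsCoatom M) (H : Subgroup G) (hH : IsCoatom H)
    (X : Subgroup G) (hXH : Subgroup.centralizer (X : Set G) ≤ H)
    (r : ℕ) (hr : r ∈ beta M) (R : Subgroup G) (hRM : R ≤ M) (hRc : Nat.card R = r)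
    (hRX : R ≤ Subgroup.centralizer (X : Set G))
    (s : ℕ) (hsp : s.Prime) (S : Subgroup G) (hSc : Nat.card S = s)
    (hSX : S ≤ Subgroup.centralizer (X : Set G))
    (hrσ : r ∉ sigma H) (hsσ : s ∉ sigma H)
    (hcase : r ∈ tau3 H ∨ (r ∈ tau1 H ∧ s ∈ tau1 H)) :
    s ∣ Nat.card ↥(M ⊓ Subgroup.centralizer (X : Set G)) := by
  have hrp : r.Prime := hr.1.1
  obtain ⟨hCR, hNR⟩ := normalizer_le_of_beta hG h1403 h1404 h1423 M hM r hr R hRM hRc
  have hCtop : Subgroup.centralizer (X : Set G) ≠ ⊤ := fun h => hH.1 (top_le_iff.mp (h ▸ hXH))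
  have hCs : Group.IsSolvable ↥(Subgroup.centralizer (X : Set G)) := isSolvable_of_ne_top hG hCtop
  -- a Hall `σ(H)'`-subgroup `F ⊇ R` of `C_G(X)`
  obtain ⟨F, hF, hRF⟩ := Cfsg.Agent.Lib.Helper67.BG.exists_piHallOf_ge {t | t ∉ sigma H}
    (Subgroup.centralizer (X : Set G)) hCs R hRX
    (fun t ht hdvd => by rw [prime_dvd_card_eq hrp hRc ht hdvd]; exact hrσ)
  obtain ⟨c, hc, hScF⟩ := exists_conj_le_hall hCs hF hSX
    (fun t ht hdvd => by rw [prime_dvd_card_eq hsp hSc ht hdvd]; exact hsσ)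
  have hFH : F ≤ H := hF.1.trans hXH
  obtain ⟨E, hE, hFE⟩ := Cfsg.Agent.Lib.Helper76.BG.exists_compl_ge hG H hH (h1350 H hH).1 F hFH
    (fun q hq hdvd => hF.2.1 q hq hdvd)
  have hEs : Group.IsSolvable ↥E :=
    isSolvable_of_ne_top hG (fun h => hH.1 (top_le_iff.mp (h ▸ hE.1)))
  have hFs : Group.IsSolvable ↥F :=
    isSolvable_of_ne_top hG (fun h => hH.1 (top_le_iff.mp (h ▸ hFH)))
  have hSc' : Nat.card ↥(S.map (MulAut.conj c).toMonoidHom) = s := by
    rw [card_map_conj, hSc]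
  have hScX : S.map (MulAut.conj c).toMonoidHom ≤ Subgroup.centralizer (X : Set G) :=
    map_conj_le_of_mem hc hSX
  rcases hcase with h3 | ⟨h1r, h1s⟩
  · -- `r ∈ τ₃(H)`
    obtain ⟨E₃, hE₃, hRE₃⟩ := Cfsg.Agent.Lib.Helper67.BG.exists_piHallOf_ge (tau3 H) E hEs R
      (hRF.trans hFE) (fun t ht hdvd => by rw [prime_dvd_card_eq hrp hRc ht hdvd]; exact h3)
    obtain ⟨hcyc, -, hEN⟩ := (h1415 H hH E hE).2.2 E₃ hE₃
    have hER : E ≤ Subgroup.normalizer (R : Set G) := by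
      intro e he
      apply mem_normalizer_of_map_conj_eq
      have hle : R.map (MulAut.conj e).toMonoidHom ≤ E₃ := by
        rintro _ ⟨y, hy, rfl⟩
        have := (Subgroup.mem_normalizer_iff.mp (hEN he) y).mp (hRE₃ hy)
        simpa [MulAut.conj_apply] using this
      have h1 : (R.map (MulAut.conj e).toMonoidHom).subgroupOf E₃ = R.subgroupOf E₃ := by
        haveI := hcyc
        apply Cfsg.Agent.Lib.Helper69.eq_of_card_eq_of_isCyclic
        rw [Nat.card_congr (Subgroup.subgroupOfEquivOfLe hle).toEquiv,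
          Nat.card_congr (Subgroup.subgroupOfEquivOfLe hRE₃).toEquiv, card_map_conj]
      have h2 := congrArg (Subgroup.map E₃.subtype) h1
      rwa [Subgroup.map_subgroupOf_eq_of_le hle, Subgroup.map_subgroupOf_eq_of_le hRE₃] at h2
    have hle : S.map (MulAut.conj c).toMonoidHom ≤ M ⊓ Subgroup.centralizer (X : Set G) :=
      le_inf (((hScF.trans hFE).trans hER).trans hNR) hScX
    have := Subgroup.card_dvd_of_le hle
    rwa [hSc'] at this
  · -- `r, s ∈ τ₁(H)`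
    obtain ⟨F₁, hF₁, hRF₁⟩ := Cfsg.Agent.Lib.Helper67.BG.exists_piHallOf_ge (tau1 H) F hFs R
      hRF (fun t ht hdvd => by rw [prime_dvd_card_eq hrp hRc ht hdvd]; exact h1r)
    obtain ⟨f, hf, hSfF⟩ := exists_conj_le_hall hFs hF₁ hScF
      (fun t ht hdvd => by rw [prime_dvd_card_eq hsp hSc' ht hdvd]; exact h1s)
    obtain ⟨E₁, hE₁, hFE₁⟩ := Cfsg.Agent.Lib.Helper67.BG.exists_piHallOf_ge (tau1 H) E hEs F₁
      (hF₁.1.trans hFE) hF₁.2.1
    have hcyc : IsCyclic ↥E₁ := (h1415 H hH E hE).2.1 E₁ hE₁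
    have hSfc : Nat.card ↥((S.map (MulAut.conj c).toMonoidHom).map (MulAut.conj f).toMonoidHom)
        = s := by
      rw [card_map_conj, hSc']
    have hSfX : (S.map (MulAut.conj c).toMonoidHom).map (MulAut.conj f).toMonoidHom ≤
        Subgroup.centralizer (X : Set G) :=
      map_conj_le_of_mem (hF.1 hf) hScX
    have hSfR : (S.map (MulAut.conj c).toMonoidHom).map (MulAut.conj f).toMonoidHom ≤
        Subgroup.centralizer (R : Set G) := by
      intro x hx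
      rw [Subgroup.mem_centralizer_iff]
      intro y hy
      letI := IsCyclic.commGroup (α := ↥E₁)
      have h := mul_comm (⟨y, hFE₁ (hRF₁ hy)⟩ : ↥E₁) ⟨x, hFE₁ (hSfF hx)⟩
      exact congrArg Subtype.val h
    have hle : (S.map (MulAut.conj c).toMonoidHom).map (MulAut.conj f).toMonoidHom ≤
        M ⊓ Subgroup.centralizer (X : Set G) :=
      le_inf (hSfR.trans hCR) hSfX
    have := Subgroup.card_dvd_of_le hle
    rwa [hSfc] at this

/-- In a maximal subgroup `H` not conjugate to `M`, a prime `r ∈ β(M)` dividing `|H|` lies in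
`τ₁(H) ∪ τ₃(H)` (and not in `σ(H)`). -/
theorem beta_mem_tau (hG : Cfsg.IsMinSimpleOddOrder G)
    (h1403 : type_of% (@Cfsg.CfsgFrozen.S1403 G _ _ hG))
    (h1408 : type_of% (@Cfsg.CfsgFrozen.S1408 G _ _ hG))
    (M : Subgroup G) (hM : IsCoatom M) (H : Subgroup G) (hH : IsCoatom H)
    (hnc : ∀ g : G, H ≠ M.map (MulAut.conj g).toMonoidHom)
    (r : ℕ) (hr : r ∈ beta M) (hdvd : r ∣ Nat.card H) :
    r ∉ sigma H ∧ (r ∈ tau1 H ∨ r ∈ tau3 H) := by
  have hrp : r.Prime := hr.1.1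
  haveI : Fact r.Prime := ⟨hrp⟩
  have hrσ : r ∉ sigma H := by
    intro hσ
    obtain ⟨g, hg⟩ := Cfsg.Agent.Lib.Helper74.BG.conj_of_sigma_of_rank3 hG h1403 hH hM hσ hr.1.2
    apply hnc g⁻¹
    rw [hg, map_conj_mul, inv_mul_cancel, map_conj_one]
  refine ⟨hrσ, ?_⟩
  have hr2 : PRankLE r 2 H := by
    by_contra h
    exact hrσ (Cfsg.Agent.Lib.Helper78.BG.alpha_subset_sigma hG h1403 H hH ⟨hrp, h⟩)
  have hr1 : PRankLE r 1 H := by
    by_contra h
    exact (h1408 H hH r hrσ hr2 h).1 hr.2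
  by_cases hd : r ∣ Nat.card ↥⁅H, H⁆
  · exact Or.inr ⟨hrp, hrσ, hd, hr1⟩
  · exact Or.inl ⟨hrp, hrσ, hdvd, hd, hr1⟩

/-- **The endgame of the sigma-partition.** -/
theorem sigma_endgame (hG : Cfsg.IsMinSimpleOddOrder G)
    (h1350 : type_of% (@Cfsg.CfsgFrozen.S1350 G _ _ hG))
    (h1403 : type_of% (@Cfsg.CfsgFrozen.S1403 G _ _ hG))
    (h1404 : type_of% (@Cfsg.CfsgFrozen.S1404 G _ _ hG))
    (h1408 : type_of% (@Cfsg.CfsgFrozen.S1408 G _ _ hG))
    (h1409 : type_of% (@Cfsg.CfsgFrozen.S1409 G _ _ hG))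
    (h1415 : type_of% (@Cfsg.CfsgFrozen.S1415 G _ _ hG))
    (h1423 : type_of% (@Cfsg.CfsgFrozen.S1423 G _ _ hG))
    (M L : Subgroup G) (hM : IsCoatom M) (hL : IsCoatom L)
    (p : ℕ) [Fact p.Prime] (X : Subgroup G) (hX : Nat.card X = p)
    (hpM : p ∉ sigma M) (hpL : p ∉ sigma L)
    (hrM : PRankLE p 1 M) (hrL : PRankLE p 1 L)
    (r : ℕ) (hr : r ∈ beta M) (R : Subgroup G) (hRM : R ≤ M) (hRc : Nat.card R = r)
    (hRX : R ≤ Subgroup.centralizer (X : Set G))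
    (s : ℕ) (hs : s ∈ beta L) (S : Subgroup G) (hSL : S ≤ L) (hSc : Nat.card S = s)
    (hSX : S ≤ Subgroup.centralizer (X : Set G))
    (hC1 : ∀ t ∈ beta L, ¬ t ∣ Nat.card ↥(M ⊓ Subgroup.centralizer (X : Set G)))
    (hC2 : ∀ t ∈ beta M, ¬ t ∣ Nat.card ↥(L ⊓ Subgroup.centralizer (X : Set G))) : False := by
  have hp : p.Prime := Fact.out
  have hX1 : X ≠ ⊥ := by
    rintro rfl
    rw [Subgroup.card_bot] at hX
    exact hp.one_lt.ne hX
  have hNtop : Subgroup.normalizer (X : Set G) ≠ ⊤ :=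
    Cfsg.Agent.Lib.Helper72.BG8.normalizer_ne_top_of_isPGroup hG (isPGroup_of_card_eq hX) hX1
  obtain ⟨H, hH, hNH⟩ := exists_coatom_ge hNtop
  have hXH : Subgroup.centralizer (X : Set G) ≤ H := (centralizer_le_normalizer' X).trans hNH
  -- `H` is conjugate to neither `M` nor `L`
  have key : ∀ K : Subgroup G, IsCoatom K → p ∉ sigma K → PRankLE p 1 K →
      ∀ g : G, H ≠ K.map (MulAut.conj g).toMonoidHom := by
    intro K _ hpK hrK g hg
    have hpH : p ∉ sigma H := by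
      rw [hg, Cfsg.Agent.Lib.Helper27.BG.sigma_map_conj]
      exact hpK
    have h := (h1409 H hH p hpH X hX hNH).1.2
    apply h
    rw [hg]
    exact Cfsg.Agent.Lib.Helper85.BG.pRankLE_map_conj hrK g
  have hncM := key M hM hpM hrM
  have hncL := key L hL hpL hrL
  have hrH : r ∣ Nat.card H := by
    have := Subgroup.card_dvd_of_le (hRX.trans hXH)
    rwa [hRc] at this
  have hsH : s ∣ Nat.card H := by
    have := Subgroup.card_dvd_of_le (hSX.trans hXH)
    rwa [hSc] at this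
  obtain ⟨hrσ, hrτ⟩ := beta_mem_tau hG h1403 h1408 M hM H hH hncM r hr hrH
  obtain ⟨hsσ, hsτ⟩ := beta_mem_tau hG h1403 h1408 L hL H hH hncL s hs hsH
  rcases hrτ with hr1 | hr3
  · rcases hsτ with hs1 | hs3
    · exact hC1 s hs (endgame_aux hG h1350 h1403 h1404 h1415 h1423 M hM H hH X hXH r hr R hRM hRc
        hRX s hs.1.1 S hSc hSX hrσ hsσ (Or.inr ⟨hr1, hs1⟩))
    · exact hC2 r hr (endgame_aux hG h1350 h1403 h1404 h1415 h1423 L hL H hH X hXH s hs S hSL hSc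
        hSX r hr.1.1 R hRc hRX hsσ hrσ (Or.inl hs3))
  · exact hC1 s hs (endgame_aux hG h1350 h1403 h1404 h1415 h1423 M hM H hH X hXH r hr R hRM hRc
      hRX s hs.1.1 S hSc hSX hrσ hsσ (Or.inl hr3))

end Cfsg.Agent.Lib.Helper90.BG
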