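import Mathlib
import Cfsg.Agent.Lib.Helper15.BG.Tau12Defs
import Cfsg.Agent.Lib.Helper13.BG.S1427A
import Cfsg.Agent.Lib.Helper35.BG.Basic
import Cfsg.Agent.Lib.Helper54.BG.PrimeActionInv
import Cfsg.Agent.Lib.Helper67.BG.HallUtil
import Cfsg.Agent.Lib.Helper67.BG.Basics
import Cfsg.Agent.Lib.Helper76.BG.S1420Core
import Cfsg.Agent.Lib.Helper78.BG.S1405Core

/-!
# Package `PkCent` of the T12M project (helper15): step (6) of Bender–Glauberman 13.12

In a counterexample with `|A₀| = q`, `A₀ = A ∩ C(M_σ)`, `τ₂(M) = {q}`, `p` the only prime of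
`τ₁(M)` dividing `|E|` and `p² ∤ |E|`: `M ≤ C(A₀)`, where `A₀ = C_A(P)`.
-/

set_option autoImplicit false

namespace Cfsg.Agent.Lib.Helper90.BG

open Cfsg Cfsg.Agent.Lib.Helper46 Cfsg.Agent.Lib.Helper35.BG

universe u

/-- The derived subgroup of a group normalizing a cyclic subgroup `A₀` centralizes `A₀`. -/
theorem commutator_le_centralizer_of_isCyclic {G : Type u} [Group G] (A₀ E : Subgroup G)
    [IsCyclic ↥A₀] (hE : E ≤ Subgroup.normalizer (A₀ : Set G)) :
    ⁅E, E⁆ ≤ Subgroup.centralizer (A₀ : Set G) := by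
  have hcomm : ⁅E, E⁆ ≤
      ⁅Subgroup.normalizer (A₀ : Set G), Subgroup.normalizer (A₀ : Set G)⁆ :=
    Subgroup.commutator_mono hE hE
  refine hcomm.trans ?_
  rw [← Subgroup.map_subtype_commutator]
  let _ := (IsCyclic.mulAutMulEquiv ↥A₀).toMonoidHom.commGroupOfInjective
    (IsCyclic.mulAutMulEquiv ↥A₀).injective
  have h := Abelianization.commutator_subset_ker A₀.normalizerMonoidHom
  rw [Subgroup.normalizerMonoidHom_ker] at h
  rintro _ ⟨y, hy, rfl⟩
  exact Subgroup.mem_subgroupOf.mp (h hy)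

/-- **Package Cent** of the T12M project. -/
theorem pkCent : Cfsg.Agent.Lib.Helper15.BG.T12.PkCent.{u} := by
  intro G _ _ hG hy M E A P p q cx hA0card hA0eq htau2 hτ1 hp2
  have hM := cx.hM
  have hE := cx.hE
  have hq := cx.hq
  have hqp : q.Prime := hq.1
  have hpp : p.Prime := cx.hp.1
  haveI : Fact q.Prime := ⟨hqp⟩
  have hE0 : Nat.card E ≠ 0 := Nat.card_pos.ne'
  -- `M_σ ≤ C(A₀)`
  have hσ : sigmaCore M ≤
      Subgroup.centralizer ((A ⊓ Subgroup.centralizer (P : Set G) : Subgroup G) : Set G) := by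
    rw [Subgroup.le_centralizer_iff, hA0eq]
    exact inf_le_right
  -- `E ≤ N(A₀)`
  have hEA : E ≤ Subgroup.normalizer (A : Set G) :=
    (hy.h1418 M hM E hE q hq A ⟨cx.hAE, cx.hAe, cx.hA2⟩).1.1
  have hEN : E ≤
      Subgroup.normalizer ((A ⊓ Subgroup.centralizer (P : Set G) : Subgroup G) : Set G) := by
    intro e he
    rw [hA0eq]
    exact Cfsg.Agent.Lib.Helper54.BG.mem_normalizer_inf (hEA he)
      (Cfsg.Agent.Lib.Helper54.BG.mem_normalizer_centralizer
        (Cfsg.Agent.Lib.Helper67.BG.sigmaCore_normalizer M (hE.1 he)))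
  haveI hcyc : IsCyclic ↥(A ⊓ Subgroup.centralizer (P : Set G)) :=
    isCyclic_of_prime_card hA0card
  have hE' : ⁅E, E⁆ ≤
      Subgroup.centralizer ((A ⊓ Subgroup.centralizer (P : Set G) : Subgroup G) : Set G) :=
    commutator_le_centralizer_of_isCyclic _ E hEN
  have hEtop : E ≠ ⊤ := fun h => hM.1 (top_le_iff.mp (h ▸ hE.1))
  have hEs : Group.IsSolvable ↥E := isSolvable_of_ne_top hG hEtop
  have hHall := (hy.h1350 M hM).1
  -- every prime divisor of `|E|` has a Sylow subgroup of `E` inside `C(A₀)`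
  have key : ∀ r : ℕ, r.Prime → r ∣ Nat.card E → ∃ S : Subgroup G,
      S ≤ E ⊓ Subgroup.centralizer ((A ⊓ Subgroup.centralizer (P : Set G) : Subgroup G) : Set G) ∧
        Nat.card S = r ^ (Nat.card E).factorization r := by
    intro r hr hdvd
    haveI : Fact r.Prime := ⟨hr⟩
    have hrσ : r ∉ sigma M := by
      intro h
      apply hHall.2.2 r hr h
      rw [← Cfsg.Agent.Lib.Helper76.BG.card_compl_eq_relIndex hE]
      exact hdvd
    have hrM : r ∣ Nat.card M := hdvd.trans (Subgroup.card_dvd_of_le hE.1)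
    have hr2 : PRankLE r 2 M := by
      by_contra h
      exact hrσ (Cfsg.Agent.Lib.Helper78.BG.alpha_subset_sigma hG hy.h1403 M hM ⟨hr, h⟩)
    by_cases h1 : PRankLE r 1 M
    · by_cases hd : r ∣ Nat.card ↥⁅M, M⁆
      · -- `r ∈ τ₃(M)`
        have h3 : r ∈ tau3 M := ⟨hr, hrσ, hd, h1⟩
        obtain ⟨S, hS⟩ := Cfsg.Agent.Lib.Helper13.BG.exists_sylIn r E
        have hSp : IsPGroup r S := sylIn_isPGroup hS
        obtain ⟨E₃, hE₃, hSE₃⟩ := Cfsg.Agent.Lib.Helper67.BG.exists_piHallOf_ge (tau3 M) E hEs S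
          hS.1 (fun t ht htd => by
            have : t = r := by
              rw [hS.2] at htd
              exact (Nat.prime_dvd_prime_iff_eq ht hr).mp (ht.dvd_of_dvd_pow htd)
            rw [this]; exact h3)
        obtain ⟨-, hle, -⟩ := (hy.h1415 M hM E hE).2.2 E₃ hE₃
        exact ⟨S, le_inf hS.1 ((hSE₃.trans hle).trans hE'), hS.2⟩
      · -- `r ∈ τ₁(M)`: `r = p`
        have h1' : r ∈ tau1 M := ⟨hr, hrσ, hrM, hd, h1⟩
        have hrp : r = p := hτ1 r h1' hdvd
        subst hrp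
        refine ⟨P, le_inf cx.hPE ?_, ?_⟩
        · rw [Subgroup.le_centralizer_iff]
          exact inf_le_right
        · have e1 : 1 ≤ (Nat.card E).factorization r :=
            (Nat.Prime.dvd_iff_one_le_factorization hr hE0).mp hdvd
          have e2 : ¬ 2 ≤ (Nat.card E).factorization r := fun h =>
            hp2 ((Nat.Prime.pow_dvd_iff_le_factorization hr hE0).mpr h)
          have e3 : (Nat.card E).factorization r = 1 := by omega
          rw [e3, pow_one]
          exact cx.hP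
    · -- `r ∈ τ₂(M) = {q}`
      have h2 : r ∈ tau2 M := ⟨hr, hrσ, hr2, h1⟩
      rw [htau2] at h2
      have hrq : r = q := h2
      subst hrq
      have hAp : IsPGroup r A := by
        intro a
        exact ⟨1, by rw [pow_one]; exact Subtype.ext (cx.hAe.2 a a.2)⟩
      obtain ⟨S, hS, hAS⟩ := exists_isSylowIn_ge hAp cx.hAE
      have hSp : IsPGroup r S := sylIn_isPGroup hS
      obtain ⟨R, hR, hSR⟩ := exists_isSylowIn_ge hSp (hS.1.trans hE.1)
      obtain ⟨Q, hQ⟩ := hR.exists_sylow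
      have hQc : IsMulCommutative (Q : Subgroup M) :=
        ((hy.h1417 M hM r hq A ⟨cx.hAE.trans hE.1, cx.hAe, cx.hA2⟩).2.1 Q).1
      refine ⟨S, le_inf hS.1 ?_, hS.2⟩
      intro s hs
      rw [Subgroup.mem_centralizer_iff]
      intro a ha
      have hsR : s ∈ (Q : Subgroup M).map M.subtype := hQ ▸ hSR hs
      have haR : a ∈ (Q : Subgroup M).map M.subtype := hQ ▸ hSR (hAS ha.1)
      obtain ⟨s', hs', rfl⟩ := hsR
      obtain ⟨a', ha', rfl⟩ := haR
      have := hQc.is_comm.comm (⟨a', ha'⟩ : (Q : Subgroup M)) ⟨s', hs'⟩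
      have h3 := congrArg (fun t : (Q : Subgroup M) => ((t : M) : G)) this
      simpa using h3
  -- hence `E ≤ C(A₀)`
  have hdvd : Nat.card E ∣ Nat.card ↥(E ⊓
      Subgroup.centralizer ((A ⊓ Subgroup.centralizer (P : Set G) : Subgroup G) : Set G)) := by
    rw [← Nat.factorization_prime_le_iff_dvd hE0 Nat.card_pos.ne']
    intro r hr
    by_cases hd : r ∣ Nat.card E
    · obtain ⟨S, hSle, hSc⟩ := key r hr hd
      have h1 := Subgroup.card_dvd_of_le hSle
      rw [hSc] at h1
      exact (Nat.Prime.pow_dvd_iff_le_factorization hr Nat.card_pos.ne').mp h1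
    · rw [Nat.factorization_eq_zero_of_not_dvd hd]
      exact Nat.zero_le _
  have hEC : E ≤
      Subgroup.centralizer ((A ⊓ Subgroup.centralizer (P : Set G) : Subgroup G) : Set G) := by
    have h1 : E ⊓ Subgroup.centralizer
        ((A ⊓ Subgroup.centralizer (P : Set G) : Subgroup G) : Set G) = E :=
      Subgroup.eq_of_le_of_card_ge inf_le_left (Nat.le_of_dvd Nat.card_pos hdvd)
    rw [← h1]
    exact inf_le_right
  intro m hm
  obtain ⟨a, ha, b, hb, rfl⟩ := hE.2.2.2 m hm
  exact mul_mem (hEC ha) (hσ hb)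

end Cfsg.Agent.Lib.Helper90.BG
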