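import Mathlib
import Cfsg.Agent.Lib.Helper90.BG.SigmaEndgame
import Cfsg.Agent.Lib.Helper98.BG.SigmaDefs
import Cfsg.Agent.Lib.Helper66.BG.S1350Core
import Cfsg.Agent.Lib.Helper20.BG.S1408Core

/-!
# Package E of the SIGMA13 project (helper98): the maximal subgroup over `N_G(P)`

`lemE : Cfsg.Agent.Lib.Helper98.BG13.LemE`.  Same argument as `sigma_endgame`
(`SigmaEndgame.lean`), keeping track of the conjugating element of `C_G(P)`.
-/

set_option autoImplicit false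

namespace Cfsg.Agent.Lib.Helper90.BG

open Cfsg Cfsg.Agent.Lib.Helper35.BG

universe u

variable {G : Type u} [Group G] [Finite G]

/-- The core of the endgame, with the conjugating element: in a maximal subgroup
`H ⊇ C_G(X)`, if `r ∈ τ₃(H)`, or `r, s ∈ τ₁(H)`, then a `C_G(X)`-conjugate of `S` lies in `M`. -/
theorem endgame_conj (hG : Cfsg.IsMinSimpleOddOrder G)
    (h1350 : type_of% (@Cfsg.CfsgFrozen.S1350 G _ _ hG))
    (h1403 : type_of% (@Cfsg.CfsgFrozen.S1403 G _ _ hG))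
    (h1404 : type_of% (@Cfsg.CfsgFrozen.S1404 G _ _ hG))
    (h1415 : type_of% (@Cfsg.CfsgFrozen.S1415 G _ _ hG))
    (h1423 : type_of% (@Cfsg.CfsgFrozen.S1423 G _ _ hG))
    (M : Subgroup G) (hM : IsCoatom M) (H : Subgroup G) (hH : IsCoatom H)
    (X : Subgroup G) (hXH : Subgroup.centralizer (X : Set G) ≤ H)
    (r : ℕ) (hr : r ∈ beta M) (R : Subgroup G) (hRM : R ≤ M) (hRc : Nat.card R = r)
    (hRX : R ≤ Subgroup.centralizer (X : Set G))
    (s : ℕ) (hsp : s.Prime) (S : Subgroup G) (hSc : Nat.card S = s)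
    (hSX : S ≤ Subgroup.centralizer (X : Set G))
    (hrσ : r ∉ sigma H) (hsσ : s ∉ sigma H)
    (hcase : r ∈ tau3 H ∨ (r ∈ tau1 H ∧ s ∈ tau1 H)) :
    ∃ c ∈ Subgroup.centralizer (X : Set G), S.map (MulAut.conj c).toMonoidHom ≤ M := by
  have hrp : r.Prime := hr.1.1
  obtain ⟨hCR, hNR⟩ := normalizer_le_of_beta hG h1403 h1404 h1423 M hM r hr R hRM hRc
  have hCtop : Subgroup.centralizer (X : Set G) ≠ ⊤ := fun h => hH.1 (top_le_iff.mp (h ▸ hXH))
  have hCs : Group.IsSolvable ↥(Subgroup.centralizer (X : Set G)) := isSolvable_of_ne_top hG hCtop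
  -- a Hall `σ(H)'`-subgroup `F ⊇ R` of `C_G(X)`
  obtain ⟨F, hF, hRF⟩ := Cfsg.Agent.Lib.Helper67.BG.exists_piHallOf_ge {t | t ∉ sigma H}
    (Subgroup.centralizer (X : Set G)) hCs R hRX
    (fun t ht hdvd => by rw [prime_dvd_card_eq hrp hRc ht hdvd]; exact hrσ)
  obtain ⟨c, hc, hScF⟩ := exists_conj_le_hall hCs hF hSX
    (fun t ht hdvd => by rw [prime_dvd_card_eq hsp hSc ht hdvd]; exact hsσ)
  have hFH : F ≤ H := hF.1.trans hXH
  obtain ⟨E, hE, hFE⟩ := Cfsg.Agent.Lib.Helper76.BG.exists_compl_ge hG H hH (h1350 H hH).1 F hFH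
    (fun q hq hdvd => hF.2.1 q hq hdvd)
  have hEs : Group.IsSolvable ↥E :=
    isSolvable_of_ne_top hG (fun h => hH.1 (top_le_iff.mp (h ▸ hE.1)))
  have hFs : Group.IsSolvable ↥F :=
    isSolvable_of_ne_top hG (fun h => hH.1 (top_le_iff.mp (h ▸ hFH)))
  have hSc' : Nat.card ↥(S.map (MulAut.conj c).toMonoidHom) = s := by
    rw [card_map_conj, hSc]
  rcases hcase with h3 | ⟨h1r, h1s⟩
  · -- `r ∈ τ₃(H)`
    obtain ⟨E₃, hE₃, hRE₃⟩ := Cfsg.Agent.Lib.Helper67.BG.exists_piHallOf_ge (tau3 H) E hEs R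
      (hRF.trans hFE) (fun t ht hdvd => by rw [prime_dvd_card_eq hrp hRc ht hdvd]; exact h3)
    obtain ⟨hcyc, -, hEN⟩ := (h1415 H hH E hE).2.2 E₃ hE₃
    have hER : E ≤ Subgroup.normalizer (R : Set G) := by
      intro e he
      apply mem_normalizer_of_map_conj_eq
      have hle : R.map (MulAut.conj e).toMonoidHom ≤ E₃ := by
        rintro _ ⟨y, hy, rfl⟩
        have := (Subgroup.mem_normalizer_iff.mp (hEN he) y).mp (hRE₃ hy)
        simpa [MulAut.conj_apply] using this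
      have h1 : (R.map (MulAut.conj e).toMonoidHom).subgroupOf E₃ = R.subgroupOf E₃ := by
        haveI := hcyc
        apply Cfsg.Agent.Lib.Helper69.eq_of_card_eq_of_isCyclic
        rw [Nat.card_congr (Subgroup.subgroupOfEquivOfLe hle).toEquiv,
          Nat.card_congr (Subgroup.subgroupOfEquivOfLe hRE₃).toEquiv, card_map_conj]
      have h2 := congrArg (Subgroup.map E₃.subtype) h1
      rwa [Subgroup.map_subgroupOf_eq_of_le hle, Subgroup.map_subgroupOf_eq_of_le hRE₃] at h2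
    exact ⟨c, hc, ((hScF.trans hFE).trans hER).trans hNR⟩
  · -- `r, s ∈ τ₁(H)`
    obtain ⟨F₁, hF₁, hRF₁⟩ := Cfsg.Agent.Lib.Helper67.BG.exists_piHallOf_ge (tau1 H) F hFs R
      hRF (fun t ht hdvd => by rw [prime_dvd_card_eq hrp hRc ht hdvd]; exact h1r)
    obtain ⟨f, hf, hSfF⟩ := exists_conj_le_hall hFs hF₁ hScF
      (fun t ht hdvd => by rw [prime_dvd_card_eq hsp hSc' ht hdvd]; exact h1s)
    obtain ⟨E₁, hE₁, hFE₁⟩ := Cfsg.Agent.Lib.Helper67.BG.exists_piHallOf_ge (tau1 H) E hEs F₁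
      (hF₁.1.trans hFE) hF₁.2.1
    have hcyc : IsCyclic ↥E₁ := (h1415 H hH E hE).2.1 E₁ hE₁
    have hSfR : (S.map (MulAut.conj c).toMonoidHom).map (MulAut.conj f).toMonoidHom ≤
        Subgroup.centralizer (R : Set G) := by
      intro x hx
      rw [Subgroup.mem_centralizer_iff]
      intro y hy
      letI := IsCyclic.commGroup (α := ↥E₁)
      have h := mul_comm (⟨y, hFE₁ (hRF₁ hy)⟩ : ↥E₁) ⟨x, hFE₁ (hSfF hx)⟩
      exact congrArg Subtype.val h
    refine ⟨f * c, mul_mem (hF.1 hf) hc, ?_⟩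
    rw [← map_conj_mul]
    exact hSfR.trans hCR

/-- **Package E** of the SIGMA13 project. -/
theorem lemE : Cfsg.Agent.Lib.Helper98.BG13.LemE.{u} := by
  intro G _ _ hG hy M L hM hL hnc p X hpM hpL hX r R hr hRM hRc hRX s S hs hSL hSc hSX
  have h1350 : type_of% (@Cfsg.CfsgFrozen.S1350 G _ _ hG) :=
    Cfsg.Agent.Lib.Helper66.BG.s1350_core hG hy.h1404 hy.h1405
  have h1403 := hy.h1403
  have h1404 := hy.h1404
  have h1408 : type_of% (@Cfsg.CfsgFrozen.S1408 G _ _ hG) :=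
    fun K hK t _ hts hr2 hr1 => Cfsg.Agent.Lib.Helper20.BG.s1408_core hG hy.h1403 K hK t hts hr2 hr1
  have h1409 := hy.h1409
  have h1415 := hy.h1415
  have h1423 := hy.h1423
  have hp : p.Prime := hpM.1
  haveI : Fact p.Prime := ⟨hp⟩
  have hX1 : X ≠ ⊥ := by
    rintro rfl
    rw [Subgroup.card_bot] at hX
    exact hp.one_lt.ne hX
  have hNtop : Subgroup.normalizer (X : Set G) ≠ ⊤ :=
    Cfsg.Agent.Lib.Helper72.BG8.normalizer_ne_top_of_isPGroup hG (isPGroup_of_card_eq hX) hX1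
  obtain ⟨H, hH, hNH⟩ := exists_coatom_ge hNtop
  have hXH : Subgroup.centralizer (X : Set G) ≤ H := (centralizer_le_normalizer' X).trans hNH
  -- `H` is conjugate to neither `M` nor `L`
  have key : ∀ K : Subgroup G, IsCoatom K → p ∉ sigma K → PRankLE p 1 K →
      ∀ g : G, H ≠ K.map (MulAut.conj g).toMonoidHom := by
    intro K _ hpK hrK g hg
    have hpH : p ∉ sigma H := by
      rw [hg, Cfsg.Agent.Lib.Helper27.BG.sigma_map_conj]
      exact hpK
    have h := (h1409 H hH p hpH X hX hNH).1.2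
    apply h
    rw [hg]
    exact Cfsg.Agent.Lib.Helper85.BG.pRankLE_map_conj hrK g
  have hncM := key M hM hpM.2.1 hpM.2.2.2.2
  have hncL := key L hL hpL.2.1 hpL.2.2.2.2
  have hrH : r ∣ Nat.card H := by
    have := Subgroup.card_dvd_of_le (hRX.trans hXH)
    rwa [hRc] at this
  have hsH : s ∣ Nat.card H := by
    have := Subgroup.card_dvd_of_le (hSX.trans hXH)
    rwa [hSc] at this
  obtain ⟨hrσ, hrτ⟩ := beta_mem_tau hG h1403 h1408 M hM H hH hncM r hr hrH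
  obtain ⟨hsσ, hsτ⟩ := beta_mem_tau hG h1403 h1408 L hL H hH hncL s hs hsH
  rcases hrτ with hr1 | hr3
  · rcases hsτ with hs1 | hs3
    · obtain ⟨c, hc, h⟩ := endgame_conj hG h1350 h1403 h1404 h1415 h1423 M hM H hH X hXH r hr R
        hRM hRc hRX s hs.1.1 S hSc hSX hrσ hsσ (Or.inr ⟨hr1, hs1⟩)
      exact ⟨c, hc, Or.inl h⟩
    · obtain ⟨c, hc, h⟩ := endgame_conj hG h1350 h1403 h1404 h1415 h1423 L hL H hH X hXH s hs S
        hSL hSc hSX r hr.1.1 R hRc hRX hsσ hrσ (Or.inl hs3)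
      exact ⟨c, hc, Or.inr h⟩
  · obtain ⟨c, hc, h⟩ := endgame_conj hG h1350 h1403 h1404 h1415 h1423 M hM H hH X hXH r hr R
      hRM hRc hRX s hs.1.1 S hSc hSX hrσ hsσ (Or.inl hr3)
    exact ⟨c, hc, Or.inl h⟩

end Cfsg.Agent.Lib.Helper90.BG
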